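import Cfsg.Agent.Lib.Fusion.RankThreePair.Shapes
import Cfsg.Agent.Lib.Struct76.LowerCentralLie

/-!
A `p`-group with elementary abelian quotient of order `p²` by its derived subgroup, on which a group of
automorphisms acts irreducibly with a nontrivial `p`-element, has class at most three when its sectional
rank is at most three.
-/

set_option autoImplicit false
set_option maxHeartbeats 800000

namespace CfsgLib.EssentialClass

open Cfsg CfsgLib.LowerCentralLie76
open scoped commutatorElement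

variable {K : Type*} [Group K] {p : ℕ}

theorem comm_lcs_top {i : ℕ} {x : K} (hx : x ∈ lcs K i) (v : K) : ⁅x, v⁆ ∈ lcs K (i + 1) :=
  comm_mem (j := 0) hx (Subgroup.mem_top v)

theorem comm_top_lcs {i : ℕ} {x : K} (hx : x ∈ lcs K i) (v : K) : ⁅v, x⁆ ∈ lcs K (i + 1) := by
  rw [← commutatorElement_inv]; exact inv_mem (comm_lcs_top hx v)

/-- The projection to the quotient by a term of the series. -/
abbrev proj (K : Type*) [Group K] (i : ℕ) : K →* K ⧸ lcs K i := QuotientGroup.mk' (lcs K i)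

theorem proj_eq_one {i : ℕ} {x : K} : proj K i x = 1 ↔ x ∈ lcs K i := QuotientGroup.eq_one_iff x

theorem proj_commute {i j : ℕ} {x : K} (hx : x ∈ lcs K i) (hj : j ≤ i + 1) (v : K) :
    Commute (proj K j x) (proj K j v) := by
  refine commutatorElement_eq_one_iff_mul_comm.mp ?_
  rw [← map_commutatorElement]
  exact proj_eq_one.mpr (lcs_le hj (comm_lcs_top hx v))

theorem proj_conj {i j : ℕ} {x : K} (hx : x ∈ lcs K i) (hj : j ≤ i + 1) (v : K) :
    proj K j (v * x * v⁻¹) = proj K j x := by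
  rw [map_mul, map_mul, map_inv, ← (proj_commute hx hj v).eq, mul_inv_cancel_right]

theorem lcs_eq_bot [Group.IsNilpotent K] {i : ℕ} (h : lcs K i ≤ lcs K (i + 1)) : lcs K i = ⊥ := by
  obtain ⟨n, hn⟩ := Subgroup.nilpotent_iff_lowerCentralSeries.mp (inferInstance : Group.IsNilpotent K)
  have key : ∀ j, lcs K i ≤ lcs K (i + j) := by
    intro j
    induction j with
    | zero => exact le_rfl
    | succ j ih =>
      exact h.trans (Subgroup.commutator_mono ih le_rfl)
  exact le_bot_iff.mp ((key n).trans ((lcs_le (Nat.le_add_left n i)).trans hn.le))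

/-- `x ↦ ⁅x, v⁆` on `lcs K i`, modulo the term after the next. -/
def pair (i : ℕ) (x v : K) : K ⧸ lcs K (i + 2) := proj K (i + 2) ⁅x, v⁆

theorem pair_mul_left {i : ℕ} {x y : K} (_hx : x ∈ lcs K i) (hy : y ∈ lcs K i) (v : K) :
    pair i (x * y) v = pair i x v * pair i y v := by
  have h1 : ⁅x * y, v⁆ = x * ⁅y, v⁆ * x⁻¹ * ⁅x, v⁆ := by simp only [commutatorElement_def]; group
  rw [pair, pair, pair, h1, map_mul _ _ ⁅x, v⁆, proj_conj (comm_lcs_top hy v) le_rfl x,
    (proj_commute (comm_lcs_top hy v) le_rfl _).eq]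

theorem pair_mul_right {i : ℕ} {x : K} (hx : x ∈ lcs K i) (v w : K) :
    pair i x (v * w) = pair i x v * pair i x w := by
  have h1 : ⁅x, v * w⁆ = ⁅x, v⁆ * (v * ⁅x, w⁆ * v⁻¹) := by simp only [commutatorElement_def]; group
  rw [pair, pair, pair, h1, map_mul, proj_conj (comm_lcs_top hx w) le_rfl v]

theorem pair_kill_left {i : ℕ} {x : K} (hx : x ∈ lcs K (i + 1)) (v : K) : pair i x v = 1 :=
  proj_eq_one.mpr (comm_lcs_top hx v)

theorem pair_kill_right {i : ℕ} {x v : K} (hx : x ∈ lcs K i) (hv : v ∈ lcs K 1) : pair i x v = 1 :=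
  proj_eq_one.mpr (comm_mem hx hv)

/-- `v ↦ ⁅x, v⁆` modulo the term after the next. -/
def pairHom (i : ℕ) {x : K} (hx : x ∈ lcs K i) : K →* K ⧸ lcs K (i + 2) :=
  MonoidHom.mk' (pair i x) fun v w => pair_mul_right hx v w

theorem pairHom_apply {i : ℕ} {x : K} (hx : x ∈ lcs K i) (v : K) : pairHom i hx v = pair i x v := rfl

/-- `x ↦ ⁅x, v⁆` modulo the term after the next. -/
def pairHom' (i : ℕ) (v : K) : lcs K i →* K ⧸ lcs K (i + 2) :=
  MonoidHom.mk' (fun x => pair i (x : K) v) fun x y => pair_mul_left x.2 y.2 v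

theorem pair_congr_left {i : ℕ} {x y : K} (hx : x ∈ lcs K i) (hy : y ∈ lcs K i) (h : x⁻¹ * y ∈ lcs K (i + 1))
    (v : K) : pair i x v = pair i y v := by
  have := pair_mul_left hx (mul_mem (inv_mem hx) hy) v
  rw [mul_inv_cancel_left, pair_kill_left h, mul_one] at this
  exact this.symm

theorem pair_congr_right {i : ℕ} {x v w : K} (hx : x ∈ lcs K i) (h : v⁻¹ * w ∈ lcs K 1) :
    pair i x v = pair i x w := by
  have := pair_mul_right hx v (v⁻¹ * w)
  rw [mul_inv_cancel_left, pair_kill_right hx h, mul_one] at this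
  exact this.symm

/-- The elements pairing trivially with `lcs K i`. -/
def radical (K : Type*) [Group K] (i : ℕ) : Subgroup K where
  carrier := {v | ∀ x ∈ lcs K i, pair i x v = 1}
  one_mem' := fun x hx => pair_kill_right hx (one_mem _)
  mul_mem' := fun {v w} hv hw x hx => by rw [pair_mul_right hx, hv x hx, hw x hx, one_mul]
  inv_mem' := fun {v} hv x hx => by
    rw [← pairHom_apply hx, map_inv, pairHom_apply hx, hv x hx, inv_one]

theorem aut_lcs (a : MulAut K) {i : ℕ} {x : K} (hx : x ∈ lcs K i) : a x ∈ lcs K i :=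
  (Subgroup.map_equiv_eq_comap_symm' a (lcs K i) ▸ ((inferInstance : (lcs K i).Characteristic).fixed a.symm)).le
    (Subgroup.mem_map_of_mem a.toMonoidHom hx)

theorem aut_radical (a : MulAut K) {i : ℕ} {v : K} (hv : v ∈ radical K i) : a v ∈ radical K i := by
  intro x hx
  have h1 := proj_eq_one.mp (hv _ (aut_lcs a⁻¹ hx))
  refine proj_eq_one.mpr ?_
  have h2 := aut_lcs a h1
  rwa [map_commutatorElement a, MulAut.apply_inv_self] at h2

theorem lcs_le_radical (i : ℕ) : lcs K 1 ≤ radical K i := fun _ hv _ hx => pair_kill_right hx hv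

variable [Finite K] [hp : Fact p.Prime]

/-- The hypotheses. -/
structure Hyp (p : ℕ) (A : Subgroup (MulAut K)) : Prop where
  isP : IsPGroup p K
  index : (lcs K 1).index = p ^ 2
  pow : ∀ x : K, x ^ p ∈ lcs K 1
  irr : ∀ Q : Subgroup K, lcs K 1 ≤ Q → (∀ a ∈ A, ∀ x ∈ Q, a x ∈ Q) → Q = lcs K 1 ∨ Q = ⊤

variable {A : Subgroup (MulAut K)}

namespace Hyp

variable (h : Hyp p A)
include h

theorem card_top : Nat.card (⊤ : Subgroup K) = p * (p * Nat.card (lcs K 1)) := by
  rw [Subgroup.card_top, ← Subgroup.card_mul_index (lcs K 1), h.index]; ring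

/-- Two elements generating modulo the derived subgroup. -/
theorem gen {a b : K} (hb : b ∉ lcs K 1) (ha : a ∉ lcs K 1 ⊔ Subgroup.zpowers b) :
    lcs K 1 ⊔ Subgroup.zpowers b ⊔ Subgroup.zpowers a = ⊤ := by
  have hp' : p.Prime := hp.out
  refine Subgroup.eq_top_of_le_card _ ?_
  rw [← Subgroup.card_top (G := K), h.card_top]
  have h1 := RankThreePair.mul_card_le_of_lt h.isP (lt_of_le_of_ne
    (le_sup_left : lcs K 1 ≤ lcs K 1 ⊔ Subgroup.zpowers b)
    fun e => hb (e.ge (Subgroup.mem_sup_right (Subgroup.mem_zpowers b))))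
  have h2 := RankThreePair.mul_card_le_of_lt h.isP (lt_of_le_of_ne
    (le_sup_left : lcs K 1 ⊔ Subgroup.zpowers b ≤ lcs K 1 ⊔ Subgroup.zpowers b ⊔ Subgroup.zpowers a)
    fun e => ha (e.ge (Subgroup.mem_sup_right (Subgroup.mem_zpowers a))))
  exact (Nat.mul_le_mul_left p h1).trans h2

omit hp in
theorem gen_comm [Fact p.Prime] {a b : K} (hb : b ∉ lcs K 1) (ha : a ∉ lcs K 1 ⊔ Subgroup.zpowers b) :
    lcs K 1 = lcs K 2 ⊔ Subgroup.zpowers ⁅a, b⁆ := by
  set c := ⁅a, b⁆
  have hc : c ∈ lcs K 1 := comm_lcs_top (i := 0) (Subgroup.mem_top a) b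
  set W := lcs K 2 ⊔ Subgroup.zpowers c with hW
  refine le_antisymm ?_ (sup_le (lcs_le (by omega)) (Subgroup.zpowers_le.mpr hc))
  have hWle : W ≤ lcs K 1 := sup_le (lcs_le (by omega)) (Subgroup.zpowers_le.mpr hc)
  have hWn : W.Normal := ⟨fun x hx g => by
    have h1 : ⁅g, x⁆ ∈ W := Subgroup.mem_sup_left (comm_top_lcs (hWle hx) g)
    have h2 := mul_mem h1 hx
    rwa [commutatorElement_def, inv_mul_cancel_right] at h2⟩
  let ρ := QuotientGroup.mk' W
  have hcen : ∀ x ∈ lcs K 1, ∀ v, Commute (ρ x) (ρ v) := fun x hx v => by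
    refine commutatorElement_eq_one_iff_mul_comm.mp ?_
    rw [← map_commutatorElement]
    exact (QuotientGroup.eq_one_iff _).mpr (Subgroup.mem_sup_left (comm_lcs_top hx v))
  have hab : Commute (ρ a) (ρ b) := commutatorElement_eq_one_iff_mul_comm.mp (by
    rw [← map_commutatorElement]
    exact (QuotientGroup.eq_one_iff _).mpr (Subgroup.mem_sup_right (Subgroup.mem_zpowers c)))
  have hgen : ∀ {v : K}, Commute (ρ a) (ρ v) → Commute (ρ b) (ρ v) → ∀ u, Commute (ρ u) (ρ v) := fun {v} hav hbv u => by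
    have hle : lcs K 1 ⊔ Subgroup.zpowers b ⊔ Subgroup.zpowers a ≤ (Subgroup.centralizer {ρ v}).comap ρ :=
      sup_le (sup_le (fun x hx => Subgroup.mem_centralizer_singleton_iff.mpr (hcen x hx v).eq)
        (Subgroup.zpowers_le.mpr (Subgroup.mem_centralizer_singleton_iff.mpr hbv.eq)))
        (Subgroup.zpowers_le.mpr (Subgroup.mem_centralizer_singleton_iff.mpr hav.eq))
    exact Subgroup.mem_centralizer_singleton_iff.mp (hle ((h.gen hb ha).ge (Subgroup.mem_top u)))
  show ⁅(⊤ : Subgroup K), ⊤⁆ ≤ W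
  refine Subgroup.commutator_le.mpr fun u _ v _ => (QuotientGroup.eq_one_iff _).mp ?_
  show ρ ⁅u, v⁆ = 1
  rw [map_commutatorElement, commutatorElement_eq_one_iff_mul_comm]
  exact hgen (hgen (Commute.refl _) hab.symm v).symm (hgen hab (Commute.refl _) v).symm u

theorem pow_comm {a b : K} : ⁅a, b⁆ ^ p ∈ lcs K 2 := by
  rw [← proj_eq_one, map_pow, map_commutatorElement]
  rw [← CfsgLib.PGroup.commutatorElement_pow_left_of_central (Subgroup.mem_center_iff.mpr fun q => by
    obtain ⟨g, rfl⟩ := QuotientGroup.mk'_surjective (lcs K 2) q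
    rw [← map_commutatorElement]
    exact (proj_commute (comm_lcs_top (i := 0) (Subgroup.mem_top a) b) le_rfl g).eq.symm), ← map_pow,
    ← map_commutatorElement]
  exact proj_eq_one.mpr (comm_lcs_top (h.pow a) b)

/-- A nontrivial `p`-automorphism of the quotient gives generators `a`, `b` with `a ↦ a b`, `b ↦ b`. -/
theorem exists_shift {θ : MulAut K} {k : ℕ} (hθ : θ ^ p ^ k = 1) (hne : ¬ ∀ v : K, v⁻¹ * θ v ∈ lcs K 1) :
    ∃ a b : K, b ∉ lcs K 1 ∧ a ∉ lcs K 1 ⊔ Subgroup.zpowers b ∧ a⁻¹ * θ a = b ∧ b⁻¹ * θ b ∈ lcs K 1 := by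
  have hp' : p.Prime := hp.out
  let V := K ⧸ lcs K 1
  let π : K →* V := proj K 1
  let d : K →* V := MonoidHom.mk' (fun v => π (v⁻¹ * θ v)) fun v w => by
    show π ((v * w)⁻¹ * θ (v * w)) = π (v⁻¹ * θ v) * π (w⁻¹ * θ w)
    have hc : Commute (π w⁻¹) (π (v⁻¹ * θ v)) := (proj_commute (i := 0) (Subgroup.mem_top _) le_rfl _)
    rw [show (v * w)⁻¹ * θ (v * w) = w⁻¹ * (v⁻¹ * θ v) * θ w by rw [map_mul]; group, map_mul, map_mul, hc.eq,
      mul_assoc, ← map_mul π w⁻¹]
  have hd : ∀ v, d v = π (v⁻¹ * θ v) := fun v => rfl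
  have hcardV : Nat.card V = p ^ 2 := by rw [← Subgroup.index_eq_card, h.index]
  -- a fixed coset
  obtain ⟨f, hf, hf1⟩ : ∃ f, d f = 1 ∧ f ∉ lcs K 1 := by
    let θV : MulAut V := QuotientGroup.congr (lcs K 1) (lcs K 1) θ
      (le_antisymm (by rintro _ ⟨x, hx, rfl⟩; exact aut_lcs θ hx)
        fun x hx => ⟨θ⁻¹ x, aut_lcs θ⁻¹ hx, θ.apply_symm_apply x⟩)
    have hθV : ∀ v, θV (π v) = π (θ v) := fun v => rfl
    have hG : IsPGroup p (Subgroup.zpowers θV) := by
      refine IsPGroup.of_card_dvd_pow (n := k) ?_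
      rw [Nat.card_zpowers]
      refine orderOf_dvd_of_pow_eq_one ?_
      have hn : ∀ n : ℕ, ∀ v, (θV ^ n) (π v) = π ((θ ^ n) v) := by
        intro n
        induction n with
        | zero => intro v; rfl
        | succ n ih => intro v; rw [pow_succ', MulAut.mul_apply, ih, hθV, pow_succ', MulAut.mul_apply]
      refine MulEquiv.ext fun q => ?_
      obtain ⟨v, rfl⟩ := QuotientGroup.mk'_surjective (lcs K 1) q
      rw [hn, hθ]; rfl
    let _ : MulAction (Subgroup.zpowers θV) V := MulAction.compHom V (Subgroup.zpowers θV).subtype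
    obtain ⟨q, hq, hq1⟩ := hG.exists_fixed_point_of_prime_dvd_card_of_fixed_point V
      (hcardV ▸ dvd_pow_self p two_ne_zero) (a := (1 : V)) fun g => map_one (g : MulAut V)
    obtain ⟨f, rfl⟩ := QuotientGroup.mk'_surjective (lcs K 1) q
    refine ⟨f, ?_, fun hf => hq1 (proj_eq_one.mpr hf).symm⟩
    have h1 : θV (π f) = π f := hq ⟨θV, Subgroup.mem_zpowers θV⟩
    rw [hd, map_mul, map_inv, inv_mul_eq_one, ← hθV, h1]
  set F := d.ker with hF
  have hF1 : lcs K 1 ≤ F := fun v hv => proj_eq_one.mpr (mul_mem (inv_mem hv) (aut_lcs θ hv))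
  have hFt : F ≠ ⊤ := fun e => hne fun v => proj_eq_one.mp (MonoidHom.mem_ker.mp (e.ge (Subgroup.mem_top v)))
  have hlt : lcs K 1 < F := lt_of_le_of_ne hF1 fun e => hf1 (e.ge (MonoidHom.mem_ker.mpr hf))
  have hFc : Nat.card F = p * Nat.card (lcs K 1) := by
    refine le_antisymm ?_ (RankThreePair.mul_card_le_of_lt h.isP hlt)
    have := RankThreePair.mul_card_le_of_lt h.isP (lt_top_iff_ne_top.mpr hFt)
    rw [h.card_top] at this
    exact Nat.le_of_mul_le_mul_left this hp'.pos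
  obtain ⟨a, -, ha⟩ := SetLike.exists_of_lt (lt_top_iff_ne_top.mpr hFt)
  have hFn : F.Normal := MonoidHom.normal_ker d
  have hFθ : ∀ x ∈ F, θ x ∈ F := fun x hx => by
    have h1 := proj_eq_one.mp (MonoidHom.mem_ker.mp hx)
    have h2 := mul_mem hx (hF1 h1)
    rwa [mul_inv_cancel_left] at h2
  have hab : a⁻¹ * θ a ∈ F := CfsgLib.FusionFlag.stabilizes_step (K := F) le_top
    (by rw [h.card_top, hFc]) hθ (fun _ _ => Subgroup.mem_top _) hFθ a (Subgroup.mem_top a)
  have hb : a⁻¹ * θ a ∉ lcs K 1 := fun hb => ha (MonoidHom.mem_ker.mpr (proj_eq_one.mpr hb))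
  refine ⟨a, _, hb, fun hh => ha ?_, rfl, proj_eq_one.mp (MonoidHom.mem_ker.mp hab)⟩
  exact (sup_le hF1 (Subgroup.zpowers_le.mpr hab)) hh

end Hyp

end CfsgLib.EssentialClass
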