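import Cfsg.Agent.Lib.Fusion.EssentialClass.Layers

/-!
The class is at most three, and the centre of such a group of class three is its last term.
-/

set_option autoImplicit false
set_option maxHeartbeats 800000

namespace CfsgLib.EssentialClass

open Cfsg CfsgLib.LowerCentralLie76
open scoped commutatorElement

variable {K : Type*} [Group K] [Finite K] {p : ℕ} [hp : Fact p.Prime] {A : Subgroup (MulAut K)}

namespace Hyp

variable (h : Hyp p A)
include h

theorem radical_eq {i : ℕ} (hne : lcs K (i + 1) ≠ ⊥) : radical K i = lcs K 1 := by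
  have := h.isP.isNilpotent
  refine (h.irr _ (lcs_le_radical i) fun a _ v hv => aut_radical a hv).resolve_right fun e => hne ?_
  refine lcs_eq_bot ?_
  show ⁅lcs K i, (⊤ : Subgroup K)⁆ ≤ lcs K (i + 2)
  exact Subgroup.commutator_le.mpr fun x hx v _ => proj_eq_one.mp ((e.ge (Subgroup.mem_top v)) x hx)

/-- The pairing with the commutator of two generators is injective. -/
theorem ker_pair {a b : K} (hb : b ∉ lcs K 1) (ha : a ∉ lcs K 1 ⊔ Subgroup.zpowers b) (hne : lcs K 2 ≠ ⊥)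
    {v : K} (hv : pair 1 ⁅a, b⁆ v = 1) : v ∈ lcs K 1 := by
  have hc : ⁅a, b⁆ ∈ lcs K 1 := comm_lcs_top (i := 0) (Subgroup.mem_top a) b
  rw [← h.radical_eq hne]
  intro x hx
  rw [h.gen_comm hb ha] at hx
  obtain ⟨d, hd, _, ⟨i, rfl⟩, rfl⟩ := Subgroup.mem_sup_of_normal_left.mp hx
  show pairHom' 1 v (⟨d, lcs_le (by omega) hd⟩ * (⟨⁅a, b⁆, hc⟩ : lcs K 1) ^ i) = 1
  rw [map_mul, map_zpow]
  show pair 1 d v * pair 1 ⁅a, b⁆ v ^ i = 1
  rw [pair_kill_left hd, hv, one_zpow, one_mul]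

theorem comm_derived {a b : K} (hb : b ∉ lcs K 1) (ha : a ∉ lcs K 1 ⊔ Subgroup.zpowers b) :
    ∀ d ∈ lcs K 1, ∀ e ∈ lcs K 1, ⁅d, e⁆ ∈ lcs K 4 := by
  let π := proj K 4
  have hgen := h.gen_comm hb ha
  have hsmall : ∀ x ∈ lcs K 2, ∀ e ∈ lcs K 1, Commute (π x) (π e) := fun x hx e he => by
    refine commutatorElement_eq_one_iff_mul_comm.mp ?_
    rw [← map_commutatorElement]
    exact proj_eq_one.mpr (lcs_le (by omega) (comm_mem hx he))
  have hle : lcs K 1 ≤ (Subgroup.centralizer {π ⁅a, b⁆}).comap π := hgen.le.trans (sup_le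
    (fun x hx => Subgroup.mem_centralizer_singleton_iff.mpr
      (hsmall x hx _ (comm_lcs_top (i := 0) (Subgroup.mem_top a) b)).eq)
    (Subgroup.zpowers_le.mpr (Subgroup.mem_centralizer_singleton_iff.mpr rfl)))
  intro d hd e he
  refine proj_eq_one.mp ?_
  rw [map_commutatorElement, commutatorElement_eq_one_iff_mul_comm]
  have hle2 : lcs K 1 ≤ (Subgroup.centralizer {π e}).comap π := hgen.le.trans (sup_le
    (fun x hx => Subgroup.mem_centralizer_singleton_iff.mpr (hsmall x hx e he).eq)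
    (Subgroup.zpowers_le.mpr (Subgroup.mem_centralizer_singleton_iff.mpr
      (Subgroup.mem_centralizer_singleton_iff.mp (hle he)).symm)))
  exact Subgroup.mem_centralizer_singleton_iff.mp (hle2 hd)

/-- The third layer together with the fourth is elementary abelian. -/
theorem pow_layer (hodd : Odd p) {a b : K} (hb : b ∉ lcs K 1) (ha : a ∉ lcs K 1 ⊔ Subgroup.zpowers b) :
    ∀ x ∈ lcs K 2, x ^ p ∈ lcs K 4 := by
  let π := proj K 4
  have hder := h.comm_derived hb ha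
  have hcc : ∀ x ∈ lcs K 2, ∀ y ∈ lcs K 2, Commute (π x) (π y) := fun x hx y hy => by
    refine commutatorElement_eq_one_iff_mul_comm.mp ?_
    rw [← map_commutatorElement]
    exact proj_eq_one.mpr (hder x (lcs_le (by omega) hx) y (lcs_le (by omega) hy))
  let T : Subgroup K :=
    { carrier := {x | x ∈ lcs K 2 ∧ π x ^ p = 1}
      one_mem' := ⟨one_mem _, by rw [map_one, one_pow]⟩
      mul_mem' := fun {x y} hx hy => ⟨mul_mem hx.1 hy.1, by
        rw [map_mul, (hcc x hx.1 y hy.1).mul_pow, hx.2, hy.2, one_mul]⟩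
      inv_mem' := fun {x} hx => ⟨inv_mem hx.1, by rw [map_inv, inv_pow, hx.2, inv_one]⟩ }
  suffices hle : lcs K 2 ≤ T by
    intro x hx
    refine proj_eq_one.mp ?_
    rw [map_pow]
    exact (hle hx).2
  show ⁅lcs K 1, (⊤ : Subgroup K)⁆ ≤ T
  refine Subgroup.commutator_le.mpr fun d hd v _ => ⟨comm_lcs_top hd v, ?_⟩
  set D := π d
  set V := π v
  rw [map_commutatorElement]
  set w := ⁅D, V⁆ with hw
  set z := ⁅V, w⁆ with hz
  have hwm : w = π ⁅d, v⁆ := (map_commutatorElement π d v).symm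
  have hzm : z = π ⁅v, ⁅d, v⁆⁆ := by rw [map_commutatorElement, ← hwm]
  have hz3 : ⁅v, ⁅d, v⁆⁆ ∈ lcs K 3 := comm_top_lcs (comm_lcs_top hd v) v
  have hzc : z ∈ Subgroup.center (K ⧸ lcs K 4) := Subgroup.mem_center_iff.mpr fun q => by
    obtain ⟨g, rfl⟩ := QuotientGroup.mk'_surjective (lcs K 4) q
    rw [hzm]
    exact (proj_commute hz3 le_rfl g).eq.symm
  have hzp : z ^ p = 1 := by
    rw [← CfsgLib.PGroup.commutatorElement_pow_left_of_central hzc, ← map_pow, hwm, ← map_commutatorElement]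
    exact proj_eq_one.mpr (lcs_le (by omega) (comm_mem (h.pow v) (comm_lcs_top hd v)))
  have hzw : Commute z w := (Subgroup.mem_center_iff.mp hzc w).symm
  have hconj : V * w * V⁻¹ = z * w := by rw [hz, commutatorElement_def, inv_mul_cancel_right]
  have key : ∀ n : ℕ, ⁅D, V ^ n⁆ = w ^ n * z ^ n.choose 2 := by
    intro n
    induction n with
    | zero => rw [pow_zero, pow_zero, Nat.choose_zero_succ, pow_zero, commutatorElement_one_right, one_mul]
    | succ n ih =>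
      have e1 : ⁅D, V * V ^ n⁆ = ⁅D, V⁆ * (V * ⁅D, V ^ n⁆ * V⁻¹) := by simp only [commutatorElement_def]; group
      have e2 : V * (w ^ n * z ^ n.choose 2) * V⁻¹ = (z * w) ^ n * z ^ n.choose 2 := by
        rw [← conj_mul, ← conj_pow, hconj, show V * (z ^ n.choose 2) * V⁻¹ = z ^ n.choose 2 by
          rw [Subgroup.mem_center_iff.mp (pow_mem hzc _) V, mul_inv_cancel_right]]
      rw [pow_succ', e1, ih, e2, hzw.mul_pow, ← hw, pow_succ' w, Nat.choose_succ_succ' n 1, Nat.choose_one_right,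
        pow_add, (hzw.pow_pow n n).eq]
      simp only [mul_assoc]
  have hVp : ⁅D, V ^ p⁆ = 1 := by
    rw [← map_pow, ← map_commutatorElement]
    exact proj_eq_one.mpr (hder d hd _ (h.pow v))
  rw [key] at hVp
  obtain ⟨m, hm⟩ : p ∣ p.choose 2 := by
    refine hp.out.dvd_choose_self two_ne_zero ?_
    rcases Nat.lt_or_ge 2 p with hlt | hge
    · exact hlt
    · obtain rfl : p = 2 := le_antisymm hge hp.out.two_le
      norm_num at hodd
  rw [hm, pow_mul, hzp, one_pow, mul_one] at hVp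
  exact hVp

/-- The derived subgroup has order `p` modulo the next term. -/
theorem card_lcs_one {a b : K} (hb : b ∉ lcs K 1) (ha : a ∉ lcs K 1 ⊔ Subgroup.zpowers b) (h1 : lcs K 1 ≠ ⊥) :
    Nat.card (lcs K 1) = p * Nat.card (lcs K 2) := by
  have := h.isP.isNilpotent
  refine le_antisymm ?_ (RankThreePair.mul_card_le_of_lt h.isP
    (lt_of_le_of_ne (lcs_le (by omega)) fun e => h1 (lcs_eq_bot e.ge)))
  have hmap : (lcs K 1).map (proj K 2) = Subgroup.zpowers (proj K 2 ⁅a, b⁆) := by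
    rw [h.gen_comm hb ha, Subgroup.map_sup, MonoidHom.map_zpowers,
      (Subgroup.map_eq_bot_iff (f := proj K 2) (lcs K 2)).mpr (QuotientGroup.ker_mk' _).ge, bot_sup_eq]
  rw [RankThreePair.card_map_mk (T := lcs K 2) (lcs_le (by omega)), hmap, Nat.card_zpowers]
  refine Nat.mul_le_mul_right _ (Nat.le_of_dvd hp.out.pos (orderOf_dvd_of_pow_eq_one ?_))
  rw [← map_pow]
  exact proj_eq_one.mpr h.pow_comm

/-- The class is at most three. -/
theorem lcs_three_eq_bot (hodd : Odd p) (hr : SectionalPRankLE p 3 K) {θ : MulAut K} {k : ℕ}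
    (hθ : θ ^ p ^ k = 1) (hθne : ¬ ∀ v : K, v⁻¹ * θ v ∈ lcs K 1) : lcs K 3 = ⊥ := by
  have hp' : p.Prime := hp.out
  have := h.isP.isNilpotent
  by_contra h3
  have h2 : lcs K 2 ≠ ⊥ := fun e => h3 (le_bot_iff.mp ((lcs_le (by omega)).trans e.le))
  have h1 : lcs K 1 ≠ ⊥ := fun e => h2 (le_bot_iff.mp ((lcs_le (by omega)).trans e.le))
  obtain ⟨a, b, hb, ha, hab, hbb⟩ := h.exists_shift hθ hθne
  set c := ⁅a, b⁆ with hcdef
  have hc : c ∈ lcs K 1 := comm_lcs_top (i := 0) (Subgroup.mem_top a) b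
  -- orders
  have hlt : ∀ i, lcs K i ≠ ⊥ → lcs K (i + 1) < lcs K i := fun i hi =>
    lt_of_le_of_ne (lcs_le (by omega)) fun e => hi (lcs_eq_bot e.ge)
  have hcard1 : Nat.card (lcs K 1) = p * Nat.card (lcs K 2) := h.card_lcs_one hb ha h1
  have hψ : (pairHom 1 hc).ker = lcs K 1 :=
    le_antisymm (fun v hv => h.ker_pair hb ha h2 hv) fun v hv => pair_kill_right hc hv
  have hcard2 : p * p * Nat.card (lcs K 3) ≤ Nat.card (lcs K 2) := by
    rw [RankThreePair.card_map_mk (T := lcs K 3) (lcs_le (by omega) : lcs K 3 ≤ lcs K 2)]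
    refine Nat.mul_le_mul_right _ ?_
    have hrange : (pairHom 1 hc).range ≤ (lcs K 2).map (proj K 3) := by
      rintro _ ⟨v, rfl⟩
      exact ⟨⁅c, v⁆, comm_lcs_top hc v, rfl⟩
    refine le_trans ?_ (Subgroup.card_le_of_le hrange)
    rw [← Subgroup.index_ker, hψ, h.index, pow_two]
  have hsec : Nat.card (lcs K 2) ≤ p ^ 3 * Nat.card (lcs K 4) := RankThreePair.card_section_le hr _ _
    (lcs_le (by omega)) (fun x _ k hk => conj_mem x hk)
    (fun x hx y hy => h.comm_derived hb ha x (lcs_le (by omega) hx) y (lcs_le (by omega) hy))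
    fun x hx => h.pow_layer hodd hb ha x hx
  have hcard3 : Nat.card (lcs K 3) = p * Nat.card (lcs K 4) := by
    refine le_antisymm ?_ (RankThreePair.mul_card_le_of_lt h.isP (hlt 3 h3))
    have hh : p * p * Nat.card (lcs K 3) ≤ p * p * (p * Nat.card (lcs K 4)) :=
      (hcard2.trans hsec).trans (le_of_eq (by ring))
    exact Nat.le_of_mul_le_mul_left hh (Nat.mul_pos hp'.pos hp'.pos)
  -- the automorphism
  have hfix3 : ∀ x ∈ lcs K 3, proj K 4 (θ x) = proj K 4 x := fun x hx => by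
    have := proj_eq_one.mpr (CfsgLib.FusionFlag.stabilizes_step (lcs_le (by omega)) hcard3 hθ
      (fun y hy => aut_lcs θ hy) (fun y hy => aut_lcs θ hy) x hx)
    rw [map_mul, map_inv, inv_mul_eq_one] at this
    exact this.symm
  have hfix1 : c⁻¹ * θ c ∈ lcs K 2 := CfsgLib.FusionFlag.stabilizes_step (lcs_le (by omega)) hcard1 hθ
    (fun y hy => aut_lcs θ hy) (fun y hy => aut_lcs θ hy) c hc
  have hw : ∀ u, ⁅c, u⁆ ∈ lcs K 2 := comm_lcs_top hc
  let B : K → K → K ⧸ lcs K 4 := fun u v => pair 2 ⁅c, u⁆ v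
  have hBadd : ∀ u u' v, B (u * u') v = B u v * B u' v := fun u u' v => by
    show pair 2 _ v = pair 2 _ v * pair 2 _ v
    rw [← pair_mul_left (hw u) (hw u')]
    refine pair_congr_left (hw _) (mul_mem (hw u) (hw u')) ?_ v
    have e := pair_mul_right hc u u'
    simp only [pair, ← map_mul] at e
    exact (QuotientGroup.eq (s := lcs K 3)).mp e
  have hBcongr : ∀ u u' v v', u⁻¹ * u' ∈ lcs K 1 → v⁻¹ * v' ∈ lcs K 1 → B u v = B u' v' := fun u u' v v' hu hv => by
    show pair 2 _ v = pair 2 _ v'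
    rw [pair_congr_right (hw u) hv]
    refine pair_congr_left (hw _) (hw _) ?_ v'
    exact (QuotientGroup.eq (s := lcs K 3)).mp (pair_congr_right hc hu)
  have hBθ : ∀ u v, B (θ u) (θ v) = B u v := fun u v => by
    show pair 2 ⁅c, θ u⁆ (θ v) = pair 2 ⁅c, u⁆ v
    have e1 : pair 2 ⁅c, θ u⁆ (θ v) = pair 2 ⁅θ c, θ u⁆ (θ v) := pair_congr_left (hw _)
      (comm_lcs_top (aut_lcs θ hc) _)
      ((QuotientGroup.eq (s := lcs K 3)).mp (pair_congr_left hc (aut_lcs θ hc) hfix1 (θ u))) _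
    rw [e1, pair, pair, ← map_commutatorElement θ, ← map_commutatorElement θ]
    exact hfix3 _ (comm_lcs_top (hw u) v)
  have hsym : ∀ u v, B u v = B v u := fun u v => by
    let π := proj K 4
    have hW : ∀ x ∈ lcs K 1, ∀ y ∈ lcs K 1, Commute (π x) (π y) := fun x hx y hy => by
      refine commutatorElement_eq_one_iff_mul_comm.mp ?_
      rw [← map_commutatorElement]
      exact proj_eq_one.mpr (h.comm_derived hb ha x hx y hy)
    have hexp : ∀ u v, π (u * v * c⁻¹ * (u * v)⁻¹) =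
        π c⁻¹ * π ⁅c, u⁆ * ((B v u)⁻¹ * π ⁅c, v⁆) := fun u v => by
      have e : u * v * c⁻¹ * (u * v)⁻¹ = c⁻¹ * ⁅c, u⁆ * (⁅⁅c, v⁆, u⁆⁻¹ * ⁅c, v⁆) := by
        simp only [commutatorElement_def]; group
      rw [e, map_mul, map_mul, map_mul, map_inv π ⁅⁅c, v⁆, u⁆]
      rfl
    have hswap : π (u * v * c⁻¹ * (u * v)⁻¹) = π (v * u * c⁻¹ * (v * u)⁻¹) := by
      have hd : ⁅v, u⁆ ∈ lcs K 1 := comm_lcs_top (i := 0) (Subgroup.mem_top v) u
      have e : v * u * c⁻¹ * (v * u)⁻¹ = ⁅v, u⁆ * (u * v * c⁻¹ * (u * v)⁻¹) * ⁅v, u⁆⁻¹ := by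
        simp only [commutatorElement_def]; group
      rw [e, map_mul π (⁅v, u⁆ * (u * v * c⁻¹ * (u * v)⁻¹)), map_mul π ⁅v, u⁆, map_inv π ⁅v, u⁆,
        (hW _ hd _ (conj_mem (u * v) (inv_mem hc))).eq, mul_inv_cancel_right]
    rw [hexp, hexp, mul_assoc, mul_assoc] at hswap
    have h5 := mul_left_cancel hswap
    have c1 : ∀ u v, Commute (π ⁅c, u⁆) (B v u)⁻¹ := fun u v => by
      refine Commute.inv_right ?_
      exact (proj_commute (comm_lcs_top (hw v) u) le_rfl _).symm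
    rw [← mul_assoc, ← mul_assoc, (c1 u v).eq, (c1 v u).eq, mul_assoc, mul_assoc,
      (hW _ (lcs_le (by omega) (hw u)) _ (lcs_le (by omega) (hw v))).eq] at h5
    exact (inv_injective (mul_right_cancel h5)).symm
  -- the contradiction
  have hta : θ a = a * b := by rw [← hab, mul_inv_cancel_left]
  have hone : ∀ u, (1 : K) = u⁻¹ * u := fun u => (inv_mul_cancel u).symm
  have hBright : ∀ u v v', B u (v * v') = B u v * B u v' := fun u v v' => pair_mul_right (hw u) v v'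
  have hbbB : B b b = 1 := by
    have e := hBθ a b
    rw [hta, hBcongr (a * b) (a * b) (θ b) b (hone _ ▸ one_mem _) (by
      have := inv_mem hbb
      rwa [mul_inv_rev, inv_inv] at this), hBadd] at e
    exact mul_eq_left.mp e
  have habB : B a b = 1 := by
    have e := hBθ a a
    rw [hta, hBadd, hBright, hBright, hbbB, mul_one, hsym b a, mul_assoc, mul_eq_left, ← pow_two] at e
    obtain ⟨m, hm⟩ := hodd
    have hq : pair 2 ⁅c, a⁆ b ^ p = 1 := by
      rw [← pairHom_apply (hw a), ← map_pow, pairHom_apply (hw a)]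
      exact pair_kill_right (hw a) (h.pow b)
    rw [hm, pow_succ, pow_mul, e, one_pow, one_mul] at hq
    exact hq
  refine hb ?_
  rw [← h.radical_eq (i := 2) h3]
  intro x hx
  have hgen1 := h.gen_comm hb ha
  let Φ : K →* K ⧸ lcs K 4 := MonoidHom.mk' (fun u => B u b) fun u u' => hBadd u u' b
  have hΦ : ∀ u, B u b = 1 := by
    have hle : lcs K 1 ⊔ Subgroup.zpowers b ⊔ Subgroup.zpowers a ≤ Φ.ker := by
      refine sup_le (sup_le (fun v hv => ?_) (Subgroup.zpowers_le.mpr hbbB)) (Subgroup.zpowers_le.mpr habB)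
      show pair 2 ⁅c, v⁆ b = 1
      exact pair_kill_left (lcs_le (by omega) (comm_mem hc hv)) b
    exact fun u => MonoidHom.mem_ker.mp (hle ((h.gen hb ha).ge (Subgroup.mem_top u)))
  have hle : lcs K 2 ≤ ((pairHom' 2 b).ker).map (lcs K 2).subtype := by
    show ⁅lcs K 1, (⊤ : Subgroup K)⁆ ≤ _
    refine Subgroup.commutator_le.mpr fun d hd u _ => ⟨⟨⁅d, u⁆, comm_lcs_top hd u⟩, ?_, rfl⟩
    show pair 2 ⁅d, u⁆ b = 1
    rw [hgen1] at hd
    obtain ⟨d₀, hd₀, _, ⟨i, rfl⟩, rfl⟩ := Subgroup.mem_sup_of_normal_left.mp hd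
    let Ψ : lcs K 1 →* K ⧸ lcs K 4 := MonoidHom.mk' (fun x => pair 2 ⁅(x : K), u⁆ b) fun x y => by
      show pair 2 ⁅(x : K) * y, u⁆ b = pair 2 ⁅(x : K), u⁆ b * pair 2 ⁅(y : K), u⁆ b
      rw [← pair_mul_left (comm_lcs_top x.2 u) (comm_lcs_top y.2 u)]
      refine pair_congr_left (comm_lcs_top (mul_mem x.2 y.2) u)
        (mul_mem (comm_lcs_top x.2 u) (comm_lcs_top y.2 u)) ?_ b
      have e := pair_mul_left x.2 y.2 u
      simp only [pair, ← map_mul] at e
      exact (QuotientGroup.eq (s := lcs K 3)).mp e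
    show Ψ (⟨d₀, lcs_le (by omega) hd₀⟩ * (⟨c, hc⟩ : lcs K 1) ^ i) = 1
    rw [map_mul, map_zpow]
    show pair 2 ⁅d₀, u⁆ b * B u b ^ i = 1
    rw [pair_kill_left (comm_lcs_top hd₀ u), hΦ u, one_zpow, one_mul]
  obtain ⟨y, hy, rfl⟩ := hle hx
  exact hy

/-- An element of the derived subgroup centralising `c` and some `b` outside lies in the last term. -/
theorem mem_of_commute {a b : K} (hb : b ∉ lcs K 1) (ha : a ∉ lcs K 1 ⊔ Subgroup.zpowers b)
    (h2 : lcs K 2 ≠ ⊥) {v u : K} (hv : v ∉ lcs K 1) (huc : Commute u ⁅a, b⁆) (huv : Commute u v) :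
    u ∈ lcs K 2 := by
  have hp' : p.Prime := hp.out
  have hc : ⁅a, b⁆ ∈ lcs K 1 := comm_lcs_top (i := 0) (Subgroup.mem_top a) b
  have hu1 : u ∈ lcs K 1 := h.ker_pair hb ha h2 (by
    show proj K 3 ⁅⁅a, b⁆, u⁆ = 1
    rw [commutatorElement_eq_one_iff_mul_comm.mpr huc.symm.eq, map_one])
  rw [h.gen_comm hb ha] at hu1
  obtain ⟨d, hd, _, ⟨i, rfl⟩, rfl⟩ := Subgroup.mem_sup_of_normal_left.mp hu1
  by_cases hi : (p : ℤ) ∣ i
  · obtain ⟨j, rfl⟩ := hi
    refine mul_mem hd ?_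
    show ⁅a, b⁆ ^ ((p : ℤ) * j) ∈ lcs K 2
    rw [zpow_mul, zpow_natCast]
    exact zpow_mem h.pow_comm j
  exfalso
  refine hv (h.ker_pair hb ha h2 ?_)
  have e : pairHom' 1 v (⟨d, lcs_le (by omega) hd⟩ * (⟨⁅a, b⁆, hc⟩ : lcs K 1) ^ i) = 1 := by
    show proj K 3 ⁅d * ⁅a, b⁆ ^ i, v⁆ = 1
    rw [commutatorElement_eq_one_iff_mul_comm.mpr huv.eq, map_one]
  rw [map_mul, map_zpow] at e
  change pair 1 d v * pair 1 ⁅a, b⁆ v ^ i = 1 at e
  rw [pair_kill_left hd, one_mul] at e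
  have hp1 : pair 1 ⁅a, b⁆ v ^ p = 1 := by
    rw [← pairHom_apply hc, ← map_pow, pairHom_apply hc]
    exact pair_kill_right hc (h.pow v)
  by_contra hne
  exact hi (by rw [← orderOf_eq_prime hp1 hne]; exact orderOf_dvd_iff_zpow_eq_one.mpr e)

end Hyp

end CfsgLib.EssentialClass
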