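import Cfsg.Agent.Lib.Fusion.EssentialClass.Main
import Cfsg.Agent.Lib.Fusion.RankThreePair.Index
import Cfsg.Agent.Lib.Fusion.RankThree.Bridge
import Cfsg.Agent.Lib.Fusion.EssentialRankTwo
import Cfsg.Agent.S5186

/-!
For `p ≥ 5` a non-normal essential subgroup of a group of sectional rank at most three is elementary abelian
of order `p²` or extraspecial of order `p³` and exponent `p`.
-/

set_option autoImplicit false
set_option maxHeartbeats 800000

namespace CfsgLib.EssentialClass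

open Cfsg Cfsg.FusionSystem CfsgLib.Fusion CfsgLib.LowerCentralLie76
open scoped commutatorElement

universe u

/-- An automorphism on the quotient by the derived subgroup. -/
noncomputable def autAb (G : Type*) [Group G] : MulAut G →* MulAut (G ⧸ lcs G 1) where
  toFun a := QuotientGroup.congr (lcs G 1) (lcs G 1) a
    (le_antisymm (by rintro _ ⟨x, hx, rfl⟩; exact aut_lcs a hx)
      fun x hx => ⟨a⁻¹ x, aut_lcs a⁻¹ hx, a.apply_symm_apply x⟩)
  map_one' := MulEquiv.ext fun q => by obtain ⟨x, rfl⟩ := QuotientGroup.mk'_surjective _ q; rfl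
  map_mul' a b := MulEquiv.ext fun q => by obtain ⟨x, rfl⟩ := QuotientGroup.mk'_surjective _ q; rfl

theorem autAb_mk {G : Type*} [Group G] (a : MulAut G) (x : G) : autAb G a (proj G 1 x) = proj G 1 (a x) := rfl

theorem autAb_eq_one {G : Type*} [Group G] {a : MulAut G} : autAb G a = 1 ↔ ∀ v, v⁻¹ * a v ∈ lcs G 1 := by
  constructor
  · intro h v
    have := DFunLike.congr_fun h (proj G 1 v)
    rw [autAb_mk, MulAut.one_apply] at this
    exact (QuotientGroup.eq (s := lcs G 1)).mp this.symm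
  · intro h
    refine MulEquiv.ext fun q => ?_
    obtain ⟨v, rfl⟩ := QuotientGroup.mk'_surjective _ q
    rw [autAb_mk, MulAut.one_apply]
    exact ((QuotientGroup.eq (s := lcs G 1)).mpr (h v)).symm

variable {p : ℕ} [hp : Fact p.Prime] {Ω : Type u} [Group Ω] {S : Subgroup Ω} [Finite S] {F : FusionSystem S}

/-- A conjugate meeting `E` in a subgroup of index `p`. -/
theorem index_meet (hS : IsPGroup p S) {E : Subgroup Ω} (hES : E ≤ S) (hidx : (E.subgroupOf (normalizerIn S E)).index = p)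
    {x : Ω} (hN : ∀ e ∈ E, x * e * x⁻¹ ∈ normalizerIn S E) (hx : x ∉ Subgroup.normalizer (E : Set Ω)) :
    ∃ M : Subgroup E, M.index = p ∧ lcs E 1 ≤ M ∧ ∀ e : E, e ∈ M ↔ x * e * x⁻¹ ∈ E := by
  have : Finite ↥E := finite_of_le hES
  set N := normalizerIn S E
  set EK := E.subgroupOf N
  have hEKn : EK.Normal := ⟨fun z hz k => (Subgroup.mem_normalizer_iff.mp k.2.2 z).mp hz⟩
  let f : E →* N := MonoidHom.mk' (fun e => ⟨x * e * x⁻¹, hN e e.2⟩) fun a b => Subtype.ext (by
    show x * ((a * b : E) : Ω) * x⁻¹ = x * a * x⁻¹ * (x * b * x⁻¹)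
    rw [Subgroup.coe_mul]; group)
  let g : E →* N ⧸ EK := (QuotientGroup.mk' EK).comp f
  have hker : ∀ e : E, e ∈ g.ker ↔ x * e * x⁻¹ ∈ E := fun e => QuotientGroup.eq_one_iff (f e)
  have hcard : Nat.card (N ⧸ EK) = p := by rw [← Subgroup.index_eq_card, hidx]
  refine ⟨g.ker, ?_, ?_, hker⟩
  · rw [Subgroup.index_ker]
    rcases (Nat.dvd_prime hp.out).mp (hcard ▸ Subgroup.card_subgroup_dvd_card g.range) with h | h
    · refine absurd (CfsgLib.Fusion.mem_normalizer_of_forall fun e he => ?_) hx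
      exact (hker ⟨e, he⟩).mp (MonoidHom.mem_ker.mpr
        (Subgroup.mem_bot.mp ((Subgroup.card_eq_one.mp h).le ⟨⟨e, he⟩, rfl⟩)))
    · exact h
  · show ⁅(⊤ : Subgroup E), ⊤⁆ ≤ g.ker
    refine Subgroup.commutator_le.mpr fun a _ b _ => MonoidHom.mem_ker.mpr ?_
    have := isCyclic_of_prime_card hcard
    rw [map_commutatorElement, commutatorElement_eq_one_iff_mul_comm]
    have := (IsCyclic.isMulCommutative (α := N ⧸ EK))
    exact this.is_comm.comm (g a) (g b)

/-- A non-normal essential subgroup is small. -/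
theorem small_of_nonnormal (h5 : 5 ≤ p) (hS : IsPGroup p S) (hsr : SectionalPRankLE p 3 S)
    (hF : F.IsSaturated p) {E : Subgroup Ω} (hE : F.IsEssential p E)
    (hnn : ¬ S ≤ Subgroup.normalizer (E : Set Ω)) :
    (IsElementaryAbelian p E ∧ Nat.card E = p ^ 2) ∨
      (IsExtraspecial p ↥E ∧ Nat.card E = p ^ 3 ∧ ∀ x ∈ E, x ^ p = 1) := by
  classical
  have hp' : p.Prime := hp.out
  have hodd : Odd p := hp'.odd_of_ne_two (by omega)
  have hES : E ≤ S := hE.1.1
  have hEfin : Finite ↥E := finite_of_le hES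
  have hPE : IsPGroup p E := hS.to_le hES
  have := hPE.isNilpotent
  have hfinA : Finite (MulAut E) := finite_mulAut hES
  have hrE : SectionalPRankLE p 3 E :=
    CfsgLib.FusionRankThree.rank_of_injective (Subgroup.inclusion_injective hES) hsr
  have hrad := radical_of_essential hE hS
  have hC : centralizerIn S E ≤ E := IsCentric.centralizerIn_le' hE.1
  obtain ⟨-, hfn, hInn, H₀, hH⟩ := id hE
  set A := F.autGroup E with hAdef
  set I := (Inn E).subgroupOf A with hIdef
  -- the Frattini quotient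
  let _ : CommGroup (E ⧸ frattini E) := CfsgLib.FusionRankThree.frattiniCommGroup hPE
  obtain ⟨r, hr⟩ := IsPGroup.iff_card.mp (hPE.to_quotient (frattini E))
  have hidxr : (frattini E).index = p ^ r := by rw [Subgroup.index_eq_card, hr]
  have hr3 : r ≤ 3 := by
    have h := CfsgLib.TwoGroups85.pRankLE_of_section hrE ⊤
      ((QuotientGroup.mk' (frattini E)).comp (⊤ : Subgroup E).subtype)
      (fun q => by
        obtain ⟨x, rfl⟩ := QuotientGroup.mk'_surjective _ q
        exact ⟨⟨x, Subgroup.mem_top x⟩, rfl⟩) ⊤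
      ⟨⟨fun a b => Subtype.ext (mul_comm (a : E ⧸ frattini E) b)⟩⟩ fun a _ => by
        obtain ⟨x, hx⟩ := QuotientGroup.mk'_surjective (frattini E) a
        rw [← hx, ← map_pow]
        exact (QuotientGroup.eq_one_iff _).2 (CfsgLib.PGroup.pow_mem_frattini hPE x)
    rw [Subgroup.card_top, hr] at h
    exact (Nat.pow_le_pow_iff_right hp'.one_lt).mp h
  have hr2 : (frattini E).index ≤ p ^ 2 := by
    rw [hidxr]
    refine Nat.pow_le_pow_right hp'.pos ?_
    by_contra hcon
    exact hnn (CfsgLib.FusionRankThree.le_normalizer_of_rank_three h5 hS hsr hF hE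
      (by rw [hidxr, show r = 3 by omega]))
  -- the derived subgroup
  have h1Φ : lcs E 1 ≤ frattini E := by
    show ⁅(⊤ : Subgroup E), ⊤⁆ ≤ _
    exact CfsgLib.PGroup.commutator_le_frattini hPE
  let V := E ⧸ lcs E 1
  let _ : CommGroup V :=
    { (inferInstance : Group V) with
      mul_comm := fun a b => by
        obtain ⟨u, rfl⟩ := QuotientGroup.mk'_surjective _ a
        obtain ⟨v, rfl⟩ := QuotientGroup.mk'_surjective _ b
        exact (proj_commute (i := 0) (Subgroup.mem_top u) le_rfl v).eq }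
  have hPI : ∀ a ∈ Inn E, autAb E a = 1 := fun a ha => autAb_eq_one.mpr fun v => by
    obtain ⟨z, hz⟩ := mem_inn.mp ha
    rw [hz, show v⁻¹ * (z * v * z⁻¹) = ⁅v⁻¹, z⁆ by simp only [commutatorElement_def]; group]
    exact comm_lcs_top (i := 0) (Subgroup.mem_top _) z
  have hker : ∀ a ∈ A, autAb E a = 1 → a ∈ Inn E := by
    intro a ha h1
    have hle : (CfsgLib.FusionRankThree.autQuot E).ker ⊓ A ≤ Inn E := by
      refine le_inn_of_radical hrad inf_le_right ?_ ?_
      · obtain ⟨n, hn⟩ := IsPGroup.iff_card.mp hPE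
        refine IsPGroup.of_card_dvd_pow (n := r * (n - r)) ?_
        refine CfsgLib.AutFrattini82.card_aut_trivial_dvd hn hidxr _ fun b hb x => ?_
        rw [← QuotientGroup.eq_one_iff]
        show QuotientGroup.mk' (frattini E) (b x * x⁻¹) = 1
        rw [map_mul, map_inv, mul_inv_eq_one]
        exact DFunLike.congr_fun (show CfsgLib.FusionRankThree.autQuot E b = 1 from hb.1)
          (QuotientGroup.mk' _ x)
      · rintro b ⟨hb, hbA⟩ c hc
        exact ⟨(MonoidHom.normal_ker _).conj_mem b hb c, A.mul_mem (A.mul_mem hc hbA) (A.inv_mem hc)⟩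
    refine hle ⟨MulEquiv.ext fun q => ?_, ha⟩
    obtain ⟨x, rfl⟩ := QuotientGroup.mk'_surjective (frattini E) q
    rw [CfsgLib.FusionRankThree.autQuot_mk, MulAut.one_apply]
    exact ((QuotientGroup.eq (s := frattini E)).mpr (h1Φ (autAb_eq_one.mp h1 x))).symm
  let ρ : A ⧸ I →* MulAut V := QuotientGroup.lift I ((autAb E).comp A.subtype) fun a ha => hPI _ ha
  have hρinj : Function.Injective ρ := by
    rw [injective_iff_map_eq_one]
    intro q hq
    obtain ⟨a, rfl⟩ := QuotientGroup.mk'_surjective I q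
    exact (QuotientGroup.eq_one_iff a).mpr (hker _ a.2 hq)
  have hcoreI := CfsgLib.Fusion.pCore_eq_bot_of_embedded hH
  -- the quotient by the derived subgroup
  obtain ⟨hexpV, hcV⟩ : (∀ v : V, v ^ p = 1) ∧ Nat.card V = p ^ 2 := by
    have hd : p ∣ Nat.card ρ.range := by
      rw [← Nat.card_congr (MonoidHom.ofInjective hρinj).toEquiv]
      exact hH.1
    have hcore : pCore p ρ.range = ⊥ := by
      let e := MonoidHom.ofInjective hρinj
      have hN : (pCore p ρ.range).Normal := Subgroup.sSup_normal _ fun _ hN => hN.1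
      have hP : IsPGroup p (pCore p ρ.range) := Sylow.sSup_of_normal _ (fun _ hN => hN.2) fun _ hN => hN.1
      have := (CfsgLib.PCore.le_pCore (hN.map e.symm.toMonoidHom e.symm.surjective) (hP.map e.symm.toMonoidHom)).trans
        hcoreI.le
      rwa [le_bot_iff, Subgroup.map_eq_bot_iff_of_injective _ e.symm.injective] at this
    have hrk : (CfsgLib.FusionRankTwo.pw p V 1).index ≤ p ^ 2 := by
      refine le_trans ?_ hr2
      have hle : frattini E ≤ (CfsgLib.FusionRankTwo.pw p V 1).comap (proj E 1) := by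
        refine CfsgLib.PGroup.frattini_le_of (p := p) _ (fun u hu => ?_) fun u => ?_
        · rw [Subgroup.mem_comap, show proj E 1 u = 1 from proj_eq_one.mpr hu]
          exact one_mem _
        · exact CfsgLib.FusionRankTwo.mem_pw.mpr ⟨proj E 1 u, by rw [pow_one, map_pow]⟩
      rw [← Subgroup.index_comap_of_surjective _ (QuotientGroup.mk'_surjective (lcs E 1))]
      exact Nat.le_of_dvd (Nat.pos_of_ne_zero Subgroup.index_ne_zero_of_finite) (Subgroup.index_dvd_of_le hle)
    rcases CfsgLib.FusionRankTwo.classify (hPE.to_quotient _) ρ.range hd hcore hrk with h | ⟨h3, -⟩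
    · exact h
    · omega
  -- the normaliser
  set N := normalizerIn S E with hNdef
  have hNS : N ≤ S := normalizerIn_le
  have hEne : E ≠ S := fun h => hnn (h ▸ Subgroup.le_normalizer)
  have hEN : E < N := lt_normalizerIn hS le_rfl (lt_of_le_of_ne hES hEne)
  have hNne : N ≠ S := fun h => hnn fun s hs => (h.ge hs).2
  have hNfin : Finite ↥N := finite_of_le hNS
  have hNp : IsPGroup p N := hS.to_le hNS
  set EK := E.subgroupOf N with hEK
  let cN : N →* MulAut E := E.normalizerMonoidHom.comp (Subgroup.inclusion inf_le_right)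
  have hcN : ∀ (k : N) (x : E), ((cN k x : E) : Ω) = k * x * (k : Ω)⁻¹ := fun _ _ => rfl
  have hcNA : ∀ k : N, cN k ∈ A := fun k =>
    autInducedBy_le_autGroup hES (mem_autInducedBy.mpr ⟨k, k.2.1, hcN k⟩)
  have htriv : ∀ k : N, autAb E (cN k) = 1 → (k : Ω) ∈ E := fun k hk =>
    (mem_inn_iff_mem hES hC k.2.1 (hcN k)).mp (hker _ (hcNA k) hk)
  have hidx : EK.index = p := by
    let φ : N →* A ⧸ I := (QuotientGroup.mk' I).comp (cN.codRestrict A hcNA)
    have hk : φ.ker = EK := Subgroup.ext fun k =>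
      (QuotientGroup.eq_one_iff _).trans (mem_inn_iff_mem hES hC k.2.1 (hcN k))
    have h1 : EK.index = Nat.card φ.range := by rw [← hk, Subgroup.index_ker]
    have hφr : IsPGroup p φ.range := hNp.of_surjective φ.rangeRestrict φ.rangeRestrict_surjective
    have h2 := RankThreePair.card_le_of_rank_two hexpV le_rfl hcV ρ hρinj hφr
    obtain ⟨m, hm⟩ := IsPGroup.iff_card.mp hφr
    rcases m with _ | m
    · exfalso
      rw [hm, pow_zero] at h1
      exact hEN.not_ge fun x hx => (Subgroup.mem_subgroupOf (h := ⟨x, hx⟩)).mp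
        ((Subgroup.index_eq_one.mp h1).ge (Subgroup.mem_top _))
    · rw [h1]
      exact le_antisymm h2 (by rw [hm]; exact Nat.le_self_pow (by omega) p)
  obtain ⟨y, hyE⟩ : ∃ y : N, (y : Ω) ∉ E := by
    obtain ⟨y, hy, hy'⟩ := SetLike.exists_of_lt hEN
    exact ⟨⟨y, hy⟩, hy'⟩
  have hθpow : ∀ k : N, ∃ j, cN k ^ p ^ j = 1 := fun k => by
    obtain ⟨j, hj⟩ := hNp k
    exact ⟨j, by rw [← map_pow, hj, map_one]⟩
  -- the hypotheses of the group theoretical part
  have hγ1 : (lcs E 1).index = p ^ 2 := by rw [Subgroup.index_eq_card, hcV]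
  have hHyp : Hyp p A := by
    refine ⟨hPE, hγ1, fun v => proj_eq_one.mp (by rw [map_pow]; exact hexpV _), fun Q hQ hQinv => ?_⟩
    by_contra hQne
    simp only [not_or] at hQne
    have hQn : Q.Normal := ⟨fun v hv g => by
      have h1 : ⁅g, v⁆ * v ∈ Q := mul_mem (hQ (comm_lcs_top (i := 0) (Subgroup.mem_top g) v)) hv
      rwa [commutatorElement_def, inv_mul_cancel_right] at h1⟩
    have htop : Nat.card (⊤ : Subgroup E) = p * (p * Nat.card (lcs E 1)) := by
      rw [Subgroup.card_top, ← Subgroup.card_mul_index (lcs E 1), hγ1]; ring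
    have hQc : Nat.card Q = p * Nat.card (lcs E 1) := by
      refine le_antisymm ?_ (RankThreePair.mul_card_le_of_lt hPE (lt_of_le_of_ne hQ (Ne.symm hQne.1)))
      have := RankThreePair.mul_card_le_of_lt hPE (lt_top_iff_ne_top.mpr hQne.2)
      rw [htop] at this
      exact Nat.le_of_mul_le_mul_left this hp'.pos
    let π := proj E 1
    let T : Subgroup A :=
      { carrier := {a | (∀ v, v⁻¹ * (a : MulAut E) v ∈ Q) ∧ ∀ v ∈ Q, v⁻¹ * (a : MulAut E) v ∈ lcs E 1}
        one_mem' := ⟨fun v => by simp, fun v _ => by simp⟩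
        mul_mem' := fun {a b} ha hb => ⟨fun v => by
          have := mul_mem (hb.1 v) (ha.1 ((b : MulAut E) v))
          rwa [mul_assoc, mul_inv_cancel_left] at this, fun v hv => by
          have := mul_mem (hb.2 v hv) (ha.2 _ (hQinv _ b.2 v hv))
          rwa [mul_assoc, mul_inv_cancel_left] at this⟩
        inv_mem' := fun {a} ha => ⟨fun v => by
          have := inv_mem (ha.1 ((a : MulAut E)⁻¹ v))
          rwa [MulAut.apply_inv_self, mul_inv_rev, inv_inv] at this, fun v hv => by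
          have := inv_mem (ha.2 _ (hQinv _ (A.inv_mem a.2) v hv))
          rwa [MulAut.apply_inv_self, mul_inv_rev, inv_inv] at this⟩ }
    have hTn : T.Normal := ⟨fun a ha b => ⟨fun v => by
        have := hQinv _ b.2 _ (ha.1 (((b : MulAut E))⁻¹ v))
        rwa [map_mul, map_inv, MulAut.apply_inv_self] at this, fun v hv => by
        have := aut_lcs (b : MulAut E) (ha.2 _ (hQinv _ (A.inv_mem b.2) v hv))
        rwa [map_mul, map_inv, MulAut.apply_inv_self] at this⟩⟩
    have hTp : IsPGroup p T := by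
      intro a
      have hpow : ∀ n : ℕ, ∀ v, π ((((a : A) : MulAut E) ^ n) v) = π v * π (v⁻¹ * ((a : A) : MulAut E) v) ^ n := by
        intro n v
        induction n with
        | zero =>
          rw [pow_zero, pow_zero, mul_one]
          rfl
        | succ n ih =>
          show π ((((a : A) : MulAut E) ^ (n + 1)) v) = _
          have ih' : π ((((a : A) : MulAut E) ^ n) v) = π (v * (v⁻¹ * ((a : A) : MulAut E) v) ^ n) :=
            ih.trans (by rw [map_mul π v, map_pow])
          rw [pow_succ', MulAut.mul_apply, ← autAb_mk, ih', autAb_mk, map_mul ((a : A) : MulAut E), map_pow, map_mul,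
            map_pow]
          have hw : π (((a : A) : MulAut E) (v⁻¹ * ((a : A) : MulAut E) v)) = π (v⁻¹ * ((a : A) : MulAut E) v) :=
            ((QuotientGroup.eq (s := lcs E 1)).mpr (a.2.2 _ (a.2.1 v))).symm
          rw [hw, pow_succ', ← mul_assoc (π v), ← map_mul π v, mul_inv_cancel_left]
      have h1 : autAb E (((a : A) : MulAut E) ^ p) = 1 := MulEquiv.ext fun q => by
        obtain ⟨v, rfl⟩ := QuotientGroup.mk'_surjective (lcs E 1) q
        rw [autAb_mk, MulAut.one_apply]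
        refine (hpow p v).trans ?_
        rw [show π (v⁻¹ * ((a : A) : MulAut E) v) ^ p = 1 from hexpV _, mul_one]
      have hin := hker _ (A.pow_mem (a : A).2 p) h1
      obtain ⟨j, hj⟩ : ∃ j, ((((a : A) : MulAut E)) ^ p) ^ p ^ j = 1 := by
        obtain ⟨z, hz⟩ := mem_inn.mp hin
        obtain ⟨j, hj⟩ := hPE z
        refine ⟨j, ?_⟩
        rw [show (((a : A) : MulAut E)) ^ p = MulAut.conj z from MulEquiv.ext fun v => by rw [hz, MulAut.conj_apply],
          ← map_pow, hj, map_one]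
      exact ⟨j + 1, Subtype.ext (Subtype.ext (by
        rw [SubmonoidClass.coe_pow, SubmonoidClass.coe_pow, Subgroup.coe_one, Subgroup.coe_one, pow_succ', pow_mul, hj]))⟩
    obtain ⟨j, hj⟩ := hθpow y
    have hmem : (⟨cN y, hcNA y⟩ : A) ∈ T :=
      ⟨fun v => CfsgLib.FusionFlag.stabilizes_step (K := Q) le_top (by rw [htop, hQc]) hj
        (fun _ _ => Subgroup.mem_top _) (hQinv _ (hcNA y)) v (Subgroup.mem_top v),
      CfsgLib.FusionFlag.stabilizes_step hQ hQc hj (hQinv _ (hcNA y)) fun v hv => aut_lcs _ hv⟩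
    have hle := (CfsgLib.PCore.le_pCore (hTn.map (QuotientGroup.mk' I) (QuotientGroup.mk'_surjective _))
      (hTp.map (QuotientGroup.mk' I))).trans hcoreI.le
    have hyI := Subgroup.mem_bot.mp (hle ⟨_, hmem, rfl⟩)
    exact hyE ((mem_inn_iff_mem hES hC y.2.1 (hcN y)).mp ((QuotientGroup.eq_one_iff _).mp hyI :))
  obtain ⟨j, hj⟩ := hθpow y
  have hne : ¬ ∀ v : E, v⁻¹ * cN y v ∈ lcs E 1 := fun h => hyE (htriv y (autAb_eq_one.mpr h))
  have h3 : lcs E 3 = ⊥ := hHyp.lcs_three_eq_bot hodd hrE hj hne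
  obtain ⟨a, b, hb, ha, -, -⟩ := hHyp.exists_shift hj hne
  have hcardE : Nat.card E = p ^ 2 * Nat.card (lcs E 1) := by
    rw [← Subgroup.card_mul_index (lcs E 1), hγ1, mul_comm]
  by_cases h1 : lcs E 1 = ⊥
  · refine Or.inl ⟨⟨⟨⟨fun u v => ?_⟩⟩, fun u hu => ?_⟩, by rw [hcardE, h1, Subgroup.card_bot, mul_one]⟩
    · have := comm_lcs_top (i := 0) (Subgroup.mem_top u) v
      rw [h1, Subgroup.mem_bot, commutatorElement_eq_one_iff_mul_comm] at this
      exact this
    · have := hHyp.pow ⟨u, hu⟩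
      rw [h1, Subgroup.mem_bot] at this
      exact congrArg Subtype.val this
  have hc1 := hHyp.card_lcs_one hb ha h1
  by_cases h2 : lcs E 2 = ⊥
  · have hc3 : Nat.card E = p ^ 3 := by rw [hcardE, hc1, h2, Subgroup.card_bot]; ring
    rcases Cfsg.Agent.S5186.result p hS F hF E hE hc3 with he | ⟨-, hex, hexp⟩ | ⟨h, -⟩
    · refine absurd ?_ h1
      show ⁅(⊤ : Subgroup E), ⊤⁆ = ⊥
      exact le_bot_iff.mp (Subgroup.commutator_le.mpr fun u _ v _ =>
        Subgroup.mem_bot.mpr (commutatorElement_eq_one_iff_mul_comm.mpr (he.1.is_comm.comm u v)))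
    · exact Or.inr ⟨hex, hc3, hexp⟩
    · omega
  exfalso
  -- a conjugate centralises the last term
  obtain ⟨x, hxN', hxN⟩ := SetLike.exists_of_lt (lt_normalizerIn hS le_rfl (lt_of_le_of_ne hNS hNne))
  have hxE : x ∉ Subgroup.normalizer (E : Set Ω) := fun h => hxN ⟨hxN'.1, h⟩
  have hxE' : x⁻¹ ∉ Subgroup.normalizer (E : Set Ω) := fun h => hxE (by simpa using inv_mem h)
  have hconjN : ∀ (g : Ω), g ∈ Subgroup.normalizer (N : Set Ω) → ∀ e ∈ E, g * e * g⁻¹ ∈ N := fun g hg e he =>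
    (Subgroup.mem_normalizer_iff.mp hg e).mp (hEN.le he)
  obtain ⟨Mx, -, hMx1, hMx⟩ := index_meet hS hES hidx (hconjN x hxN'.2) hxE
  obtain ⟨My, hMyi, hMy1, hMy⟩ := index_meet hS hES hidx (hconjN _ (inv_mem hxN'.2)) hxE'
  obtain ⟨v, hv, hv1⟩ := SetLike.exists_of_lt (lt_of_le_of_ne hMy1 fun e => by
    rw [← e, hγ1, pow_two] at hMyi
    exact hp'.ne_one ((Nat.mul_eq_left hp'.ne_zero).mp hMyi))
  have hcen : ∀ z ∈ lcs E 2, ∀ e : E, Commute z e := fun z hz e => by
    have := comm_lcs_top hz e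
    rw [h3, Subgroup.mem_bot, commutatorElement_eq_one_iff_mul_comm] at this
    exact this
  let cx : lcs E 2 → lcs E 2 := fun z => ⟨⟨x * ((z : E) : Ω) * x⁻¹, (hMx z).mp (hMx1 (lcs_le (by omega) z.2))⟩, by
    have hcomm : ∀ m ∈ My, Commute (⟨x * ((z : E) : Ω) * x⁻¹, (hMx z).mp (hMx1 (lcs_le (by omega) z.2))⟩ : E) m := by
      intro m hm
      have hm' := (hMy m).mp hm
      rw [inv_inv] at hm'
      have h := congrArg Subtype.val (hcen z z.2 ⟨_, hm'⟩).eq
      refine Subtype.ext ?_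
      show x * ((z : E) : Ω) * x⁻¹ * m = (m : Ω) * (x * ((z : E) : Ω) * x⁻¹)
      calc x * ((z : E) : Ω) * x⁻¹ * m = x * (((z : E) : Ω) * (x⁻¹ * m * x)) * x⁻¹ := by group
        _ = x * ((x⁻¹ * m * x) * ((z : E) : Ω)) * x⁻¹ := by
            exact congrArg (fun w => x * w * x⁻¹) h
        _ = _ := by group
    exact hHyp.mem_of_commute hb ha h2 hv1 (hcomm _ (hMy1 (comm_lcs_top (i := 0) (Subgroup.mem_top a) b)))
      (hcomm v hv)⟩
  have hcxinj : Function.Injective cx := fun u w h => by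
    have h' : x * ((u : E) : Ω) * x⁻¹ = x * ((w : E) : Ω) * x⁻¹ := congrArg (fun t : lcs E 2 => ((t : E) : Ω)) h
    exact Subtype.ext (Subtype.ext (mul_left_cancel (mul_right_cancel h')))
  obtain ⟨e₀, he₀⟩ : ∃ e₀ : E, x * e₀ * x⁻¹ ∉ E := by
    by_contra! hh
    exact hxE (CfsgLib.Fusion.mem_normalizer_of_forall fun e he => hh ⟨e, he⟩)
  let w : N := ⟨_, hconjN x hxN'.2 e₀ e₀.2⟩
  have hwfix : ∀ z ∈ lcs E 2, cN w z = z := by
    intro z hz
    obtain ⟨z', hz'⟩ := (Finite.injective_iff_surjective.mp hcxinj) ⟨z, hz⟩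
    have hzv : x * ((z' : E) : Ω) * x⁻¹ = (z : Ω) := congrArg (fun t : lcs E 2 => ((t : E) : Ω)) hz'
    have h := congrArg Subtype.val (hcen z' z'.2 e₀).eq
    refine Subtype.ext ?_
    rw [hcN, ← hzv]
    show x * e₀ * x⁻¹ * (x * ((z' : E) : Ω) * x⁻¹) * (x * (e₀ : Ω) * x⁻¹)⁻¹ = _
    calc x * e₀ * x⁻¹ * (x * ((z' : E) : Ω) * x⁻¹) * (x * (e₀ : Ω) * x⁻¹)⁻¹
        = x * ((e₀ : Ω) * ((z' : E) : Ω)) * (e₀ : Ω)⁻¹ * x⁻¹ := by group
      _ = x * (((z' : E) : Ω) * (e₀ : Ω)) * (e₀ : Ω)⁻¹ * x⁻¹ := by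
          exact congrArg (fun t => x * t * (e₀ : Ω)⁻¹ * x⁻¹) h.symm
      _ = _ := by group
  obtain ⟨i, hi⟩ := hθpow w
  have hc := comm_lcs_top (i := 0) (Subgroup.mem_top a) b
  have hfix1 : ⁅a, b⁆⁻¹ * cN w ⁅a, b⁆ ∈ lcs E 2 := CfsgLib.FusionFlag.stabilizes_step (lcs_le (by omega)) hc1 hi
    (fun u hu => aut_lcs _ hu) (fun u hu => aut_lcs _ hu) _ hc
  refine he₀ (htriv w (autAb_eq_one.mpr fun t => hHyp.ker_pair hb ha h2 ?_))
  rw [← pairHom_apply hc, map_mul, map_inv, inv_mul_eq_one]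
  show pair 1 ⁅a, b⁆ t = pair 1 ⁅a, b⁆ (cN w t)
  rw [pair_congr_left hc (aut_lcs _ hc) hfix1 (cN w t)]
  show proj E 3 ⁅⁅a, b⁆, t⁆ = proj E 3 ⁅cN w ⁅a, b⁆, cN w t⁆
  rw [← map_commutatorElement (cN w), hwfix _ (comm_lcs_top hc t)]

end CfsgLib.EssentialClass
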